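import Groth.Agent.QuasiAffLib.Basic
import Groth.Prelude.Def_MoreMor

/-!
# Ind-quasi-affine morphisms
-/

universe u

set_option autoImplicit false
set_option backward.isDefEq.respectTransparency false

open AlgebraicGeometry CategoryTheory Limits TopologicalSpace

namespace Groth.Agent.FlatMorIndQA

open QuasiAffLib

variable {X Y Z : Scheme.{u}}

theorem isQuasiAffine_of_iso {X Y : Scheme.{u}} (e : X ≅ Y) [Y.IsQuasiAffine] : X.IsQuasiAffine :=
  .of_isAffineHom e.hom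

theorem isCompact_ι_image {U : X.Opens} {O : (U : Scheme.{u}).Opens}
    (h : IsCompact (O : Set (U : Scheme.{u}))) : IsCompact ((U.ι ''ᵁ O : X.Opens) : Set X) := by
  have := h.image U.ι.continuous
  exact this

/-- Ind-quasi-affineness of an open, in terms of the ambient scheme. -/
theorem isIndQuasiAffine_iff (W : X.Opens) :
    MoreMor.IsIndQuasiAffine (W : Scheme.{u}) ↔
      ∀ U : X.Opens, U ≤ W → IsCompact (U : Set X) → Scheme.IsQuasiAffine (U : Scheme.{u}) := by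
  constructor
  · intro h U hU hc
    have himg : W.ι ''ᵁ (W.ι ⁻¹ᵁ U) = U := by
      rw [Scheme.Hom.image_preimage_eq_opensRange_inf, Scheme.Opens.opensRange_ι, inf_eq_right.2 hU]
    have hc' : IsCompact ((W.ι ⁻¹ᵁ U : (W : Scheme.{u}).Opens) : Set (W : Scheme.{u})) := by
      refine W.ι.isOpenEmbedding.isInducing.isCompact_preimage' hc ?_
      simpa using hU
    have := h _ hc'
    exact isQuasiAffine_of_iso ((W.ι.isoImage _) ≪≫ X.isoOfEq himg).symm
  · intro h O hO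
    have hle : W.ι ''ᵁ O ≤ W := (W.ι.image_le_opensRange O).trans_eq W.opensRange_ι
    have := h _ hle (isCompact_ι_image hO)
    exact isQuasiAffine_of_iso (W.ι.isoImage O)

theorem hom_iff (f : X ⟶ Y) : MoreMor.IsIndQuasiAffineHom f ↔
    ∀ V : Y.Opens, IsAffineOpen V → ∀ U : X.Opens, U ≤ f ⁻¹ᵁ V → IsCompact (U : Set X) →
      Scheme.IsQuasiAffine (U : Scheme.{u}) :=
  forall_congr' fun _ => imp_congr_right fun _ => isIndQuasiAffine_iff _

theorem image_preimage_resLE (f : X ⟶ Y) (V : Y.Opens) (U : X.Opens) (e : U ≤ f ⁻¹ᵁ V)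
    (T : (V : Scheme.{u}).Opens) :
    U.ι ''ᵁ (f.resLE V U e ⁻¹ᵁ T) ≤ f ⁻¹ᵁ (V.ι ''ᵁ T) := by
  rintro x ⟨z, hz, rfl⟩
  refine ⟨f.resLE V U e z, hz, ?_⟩
  show V.ι (f.resLE V U e z) = f (U.ι z)
  rw [← Scheme.Hom.comp_apply, Scheme.Hom.resLE_comp_ι]
  rfl

/-- Quasi-compact restrictions of ind-quasi-affine morphisms are quasi-affine. -/
theorem isQuasiAffine_resLE {f : X ⟶ Y} (hf : MoreMor.IsIndQuasiAffineHom f) (V : Y.Opens)
    (U : X.Opens) (e : U ≤ f ⁻¹ᵁ V) [QuasiCompact (f.resLE V U e)] :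
    Mor2.IsQuasiAffine (f.resLE V U e) := by
  refine ⟨inferInstance, fun T hT => ?_⟩
  have := (hom_iff f).1 hf _ (hT.image_of_isOpenImmersion V.ι) _ (image_preimage_resLE f V U e T)
    (isCompact_ι_image ((f.resLE V U e).isCompact_preimage hT.isCompact))
  exact isQuasiAffine_of_iso (U.ι.isoImage _)

theorem quasiCompact_resLE (f : X ⟶ Y) {V : Y.Opens} (hV : IsQuasiSeparated (V : Set Y))
    {U : X.Opens} (hU : IsCompact (U : Set X)) (e : U ≤ f ⁻¹ᵁ V) :
    QuasiCompact (f.resLE V U e) := by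
  have : QuasiSeparatedSpace (V : Scheme.{u}) :=
    (isQuasiSeparated_iff_quasiSeparatedSpace _ V.isOpen).1 hV
  have := compactSpace_of_isCompact hU
  exact QuasiCompact.of_comp (f.resLE V U e) (terminal.from (V : Scheme.{u}))

theorem isQuasiAffine_top {f : X ⟶ Y} (hf : Mor2.IsQuasiAffine f) [IsAffine Y] :
    X.IsQuasiAffine := by
  have := hf.2 ⊤ (isAffineOpen_top Y)
  exact isQuasiAffine_of_iso (X.topIso.symm ≪≫ X.isoOfEq (Scheme.Hom.preimage_top (f := f)).symm)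

theorem hom_iff_qcqs (f : X ⟶ Y) : MoreMor.IsIndQuasiAffineHom f ↔
    ∀ V : Y.Opens, IsCompact (V : Set Y) → IsQuasiSeparated (V : Set Y) →
      ∀ (U : X.Opens) (hUV : U ≤ f ⁻¹ᵁ V), IsCompact (U : Set X) →
        MoreMor.IsQuasiAffineHom (f.resLE V U hUV) := by
  refine ⟨fun hf V _ hV' U e hU => ?_, fun h => (hom_iff f).2 fun V hV U e hU => ?_⟩
  · have := quasiCompact_resLE f hV' hU e
    exact isQuasiAffine_resLE hf V U e
  · have : IsAffine (V : Scheme.{u}) := hV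
    exact isQuasiAffine_top (h V hV.isCompact hV.isQuasiSeparated U e hU)

theorem exists_compact_between {W : X.Opens} {K : Set X} (hK : IsCompact K) (hKW : K ⊆ W) :
    ∃ T : X.Opens, IsCompact (T : Set X) ∧ K ⊆ T ∧ T ≤ W := by
  have : ∀ x ∈ K, ∃ T : X.Opens, IsAffineOpen T ∧ x ∈ T ∧ T ≤ W := fun x hx => by
    obtain ⟨T, hT, hxT, hTW⟩ := exists_isAffineOpen_mem_and_subset (x := x) (U := W) (hKW hx)
    exact ⟨T, hT, hxT, hTW⟩
  choose T hT hxT hTW using this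
  obtain ⟨t, ht⟩ := hK.elim_finite_subcover (fun x : K => (T x x.2 : Set X))
    (fun x => (T x x.2).isOpen) (fun x hx => Set.mem_iUnion.2 ⟨⟨x, hx⟩, hxT x hx⟩)
  refine ⟨⨆ x ∈ t, T x.1 x.2, ?_, fun x hx => ?_, iSup₂_le fun x _ => hTW _ _⟩
  · simp only [Opens.coe_iSup]
    exact t.isCompact_biUnion fun x _ => (hT _ _).isCompact
  · have := ht hx
    simpa only [Opens.coe_iSup] using this

theorem comp {f : X ⟶ Y} {g : Y ⟶ Z} (hf : MoreMor.IsIndQuasiAffineHom f)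
    (hg : MoreMor.IsIndQuasiAffineHom g) : MoreMor.IsIndQuasiAffineHom (f ≫ g) := by
  refine (hom_iff _).2 fun V hV U e hU => ?_
  obtain ⟨W, hW, hUW, hWV⟩ := exists_compact_between (W := g ⁻¹ᵁ V) (hU.image f.continuous)
    (by rintro _ ⟨x, hx, rfl⟩; exact e hx)
  have := (hom_iff g).1 hg V hV W hWV hW
  have hUW' : U ≤ f ⁻¹ᵁ W := fun x hx => hUW ⟨x, hx, rfl⟩
  have := quasiCompact_resLE f
    ((isQuasiSeparated_iff_quasiSeparatedSpace _ W.isOpen).2
      (inferInstanceAs (QuasiSeparatedSpace (W : Scheme.{u})))) hU hUW'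
  have := compactSpace_of_isCompact hW
  refine isQuasiAffine_top (f := f.resLE W U hUW' ≫ (W : Scheme.{u}).toSpecΓ)
    (isQuasiAffine_comp _ _ (isQuasiAffine_resLE hf W U hUW') ?_)
  exact isQuasiAffine_of_isEmbedding _ (W : Scheme.{u}).toSpecΓ.isOpenEmbedding.toIsEmbedding

theorem of_isQuasiAffine {f : X ⟶ Y} (hf : MoreMor.IsQuasiAffineHom f) :
    MoreMor.IsIndQuasiAffineHom f :=
  (hom_iff f).2 fun V hV U e hU => by
    have := hf.2 V hV
    exact of_le e hU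

theorem of_isImmersion (f : X ⟶ Y) [IsImmersion f] : MoreMor.IsIndQuasiAffineHom f :=
  (hom_iff f).2 fun V hV U e hU => by
    have : IsAffine (V : Scheme.{u}) := hV
    have := compactSpace_of_isCompact hU
    have : IsImmersion (f.resLE V U e ≫ V.ι) := by
      rw [Scheme.Hom.resLE_comp_ι]; infer_instance
    have : IsImmersion (f.resLE V U e) := IsImmersion.of_comp _ V.ι
    exact .of_isImmersion (f.resLE V U e)

/-- Reduce to members of a basis of affine opens of the target. -/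
theorem of_locally (f : X ⟶ Y) (P : Y.Opens → Prop)
    (hP : ∀ V : Y.Opens, IsAffineOpen V → ∀ y ∈ V, ∃ a : Γ(Y, V), y ∈ Y.basicOpen a ∧ P (Y.basicOpen a))
    (h : ∀ V : Y.Opens, IsAffineOpen V → P V → ∀ U : X.Opens, U ≤ f ⁻¹ᵁ V → IsCompact (U : Set X) →
      Scheme.IsQuasiAffine (U : Scheme.{u})) : MoreMor.IsIndQuasiAffineHom f := by
  refine (hom_iff f).2 fun V hV U e hU => of_basicOpen_cover_opens U hU fun x hx => ?_
  obtain ⟨a, hxa, ha⟩ := hP V hV (f x) (e hx)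
  let r : Γ(X, U) := X.presheaf.map (homOfLE e).op (f.app V a)
  have hr : X.basicOpen r = U ⊓ f ⁻¹ᵁ Y.basicOpen a := by
    rw [Scheme.basicOpen_res, Scheme.preimage_basicOpen]
  refine ⟨r, hr ▸ ⟨hx, hxa⟩, h _ (hV.basicOpen a) ha _ (hr ▸ inf_le_right) ?_⟩
  have := quasiCompact_resLE f hV.isQuasiSeparated hU e
  have hc := isCompact_ι_image ((f.resLE V U e).isCompact_preimage
    (U := V.ι ⁻¹ᵁ Y.basicOpen a)
    (V.ι.isOpenEmbedding.isInducing.isCompact_preimage' (hV.basicOpen a).isCompact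
      (by simpa using Y.basicOpen_le a)))
  convert hc using 1
  rw [hr]
  ext z
  constructor
  · rintro ⟨hz, hz'⟩
    refine ⟨⟨z, hz⟩, ?_, rfl⟩
    show V.ι (f.resLE V U e ⟨z, hz⟩) ∈ Y.basicOpen a
    rw [← Scheme.Hom.comp_apply, Scheme.Hom.resLE_comp_ι]
    exact hz'
  · rintro ⟨⟨z, hz⟩, hz', rfl⟩
    refine ⟨hz, ?_⟩
    have : V.ι (f.resLE V U e ⟨z, hz⟩) ∈ Y.basicOpen a := hz'
    rwa [← Scheme.Hom.comp_apply, Scheme.Hom.resLE_comp_ι] at this

theorem of_comp {f : X ⟶ Y} {g : Y ⟶ Z} (h : MoreMor.IsIndQuasiAffineHom (f ≫ g)) :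
    MoreMor.IsIndQuasiAffineHom f := by
  refine of_locally f (fun V => ∃ W : Z.Opens, IsAffineOpen W ∧ V ≤ g ⁻¹ᵁ W) (fun V hV y hy => ?_)
    fun V _ ⟨W, hW, hVW⟩ U e hU => (hom_iff _).1 h W hW U (fun x hx => hVW (e hx)) hU
  obtain ⟨W, hW, hyW, -⟩ :=
    exists_isAffineOpen_mem_and_subset (x := g y) (U := ⊤) (Set.mem_univ _)
  obtain ⟨a, ha, hya⟩ := hV.exists_basicOpen_le (V := g ⁻¹ᵁ W) ⟨y, hyW⟩ hy
  exact ⟨a, hya, W, hW, ha⟩

theorem baseChange {S X' S' : Scheme.{u}} {f : X ⟶ S} {f' : X' ⟶ S'} {g' : X' ⟶ X} {g : S' ⟶ S}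
    (hc : IsPullback g' f' f g) (hf : MoreMor.IsIndQuasiAffineHom f) :
    MoreMor.IsIndQuasiAffineHom f' := by
  refine of_locally f' (fun V' => ∃ V : S.Opens, IsAffineOpen V ∧ V' ≤ g ⁻¹ᵁ V) (fun V' hV' y hy => ?_)
    fun V' hV' ⟨V, hV, hVV⟩ U e hU => ?_
  · obtain ⟨W, hW, hyW, -⟩ :=
      exists_isAffineOpen_mem_and_subset (x := g y) (U := ⊤) (Set.mem_univ _)
    obtain ⟨a, ha, hya⟩ := hV'.exists_basicOpen_le (V := g ⁻¹ᵁ W) ⟨y, hyW⟩ hy
    exact ⟨a, hya, W, hW, ha⟩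
  obtain ⟨W, hW, hUW, hWV⟩ := exists_compact_between (W := f ⁻¹ᵁ V) (hU.image g'.continuous)
    (by
      rintro _ ⟨x, hx, rfl⟩
      show f (g' x) ∈ V
      rw [← Scheme.Hom.comp_apply, hc.w]
      exact hVV (e hx))
  have hUW' : U ≤ g' ⁻¹ᵁ W := fun x hx => hUW ⟨x, hx, rfl⟩
  have := quasiCompact_resLE f hV.isQuasiSeparated hW hWV
  have : IsAffine (V' : Scheme.{u}) := hV'
  have := compactSpace_of_isCompact hU
  have := isQuasiAffine_top (isQuasiAffine_baseChange _ (isQuasiAffine_resLE hf V W hWV)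
    (g.resLE V V' hVV))
  let L : (U : Scheme.{u}) ⟶ pullback (f.resLE V W hWV) (g.resLE V V' hVV) :=
    pullback.lift (g'.resLE W U hUW') (f'.resLE V' U e) (by
      rw [← cancel_mono V.ι]
      simp [Scheme.Hom.resLE_comp_ι, hc.w])
  let M : pullback (f.resLE V W hWV) (g.resLE V V' hVV) ⟶ X' :=
    hc.lift (pullback.fst _ _ ≫ W.ι) (pullback.snd _ _ ≫ V'.ι) (by
      rw [Category.assoc, Category.assoc, ← Scheme.Hom.resLE_comp_ι f hWV,
        ← Scheme.Hom.resLE_comp_ι g hVV, pullback.condition_assoc])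
  have hLM : L ≫ M = U.ι := by
    apply hc.hom_ext
    · simp [L, M, Scheme.Hom.resLE_comp_ι]
    · simp [L, M, Scheme.Hom.resLE_comp_ι]
  have : IsImmersion (L ≫ M) := hLM ▸ inferInstance
  have : IsImmersion L := IsImmersion.of_comp L M
  exact .of_isImmersion L

end Groth.Agent.FlatMorIndQA
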