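import Groth.Agent.FlatMorIndQA.Basic
import Groth.Agent.S1127

/-!
# fpqc descent of ind-quasi-affineness
-/

universe u

set_option autoImplicit false
set_option backward.isDefEq.respectTransparency false

open AlgebraicGeometry CategoryTheory Limits TopologicalSpace

namespace Groth.Agent.FlatMorIndQA

theorem isPullback_resLE {X S X' S' : Scheme.{u}} {f : X ⟶ S} {f' : X' ⟶ S'} {g' : X' ⟶ X}
    {g : S' ⟶ S} (hc : IsPullback g' f' f g) (V : S.Opens) (U : X.Opens) (e : U ≤ f ⁻¹ᵁ V)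
    (e' : g' ⁻¹ᵁ U ≤ f' ⁻¹ᵁ (g ⁻¹ᵁ V)) :
    IsPullback (g' ∣_ U) (f'.resLE (g ⁻¹ᵁ V) (g' ⁻¹ᵁ U) e') (f.resLE V U e) (g ∣_ V) := by
  refine IsPullback.of_bot ?_ ?_ (isPullback_morphismRestrict g V)
  · rw [Scheme.Hom.resLE_comp_ι, Scheme.Hom.resLE_comp_ι]
    exact (isPullback_morphismRestrict g' U).paste_vert hc
  · rw [← cancel_mono V.ι]
    simp [hc.w, Scheme.Hom.resLE_comp_ι]

theorem descent {X S X' S' : Scheme.{u}} {f : X ⟶ S} {f' : X' ⟶ S'} {g' : X' ⟶ X} {g : S' ⟶ S}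
    [Flat g] [Surjective g] [QuasiCompact g] (hc : IsPullback g' f' f g)
    (hf' : MoreMor.IsIndQuasiAffineHom f') : MoreMor.IsIndQuasiAffineHom f := by
  refine (hom_iff f).2 fun V hV U e hU => ?_
  have : IsAffine (V : Scheme.{u}) := hV
  have := quasiCompact_resLE f hV.isQuasiSeparated hU e
  have e' : g' ⁻¹ᵁ U ≤ f' ⁻¹ᵁ (g ⁻¹ᵁ V) := fun x hx => by
    show g (f' x) ∈ V
    rw [← Scheme.Hom.comp_apply, ← hc.w]
    exact e hx
  have hp := isPullback_resLE hc V U e e'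
  have : QuasiCompact (f'.resLE (g ⁻¹ᵁ V) (g' ⁻¹ᵁ U) e') := MorphismProperty.of_isPullback hp inferInstance
  let P : MorphismProperty Scheme.{u} := fun _ _ h => Mor2.IsQuasiAffine h
  have : P.DescendsAlong (@Surjective ⊓ @Flat ⊓ @QuasiCompact) := S1127.result
  have hQ : (@Surjective ⊓ @Flat ⊓ @QuasiCompact : MorphismProperty Scheme.{u}) (g ∣_ V) :=
    ⟨⟨IsZariskiLocalAtTarget.restrict ‹Surjective g› V, IsZariskiLocalAtTarget.restrict ‹Flat g› V⟩,
      IsZariskiLocalAtTarget.restrict ‹QuasiCompact g› V⟩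
  have h : P (f.resLE V U e) := MorphismProperty.of_isPullback_of_descendsAlong (P := P) hp.flip hQ
    (isQuasiAffine_resLE hf' _ _ e')
  exact isQuasiAffine_top h

end Groth.Agent.FlatMorIndQA
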